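import Mathlib
import Groth.Agent.EGA43Valuative.DominatingDVR
import Groth.Agent.AlgSpBasic.DecentClosedPoints

/-!
# Valuative lifting for monomorphisms from lifting over discrete valuation rings
-/

set_option autoImplicit false
set_option backward.isDefEq.respectTransparency false
set_option backward.isDefEq.respectTransparency.types false

universe u

open CategoryTheory CategoryTheory.Limits AlgebraicGeometry IsLocalRing

namespace Groth.MonoVal

/-- An element which is a polynomial in its inverse is integral. -/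
theorem isIntegral_of_eq_aeval_inv {R K : Type u} [CommRing R] [Nontrivial R] [Field K] [Algebra R K] {z : K}
    (hz : z ≠ 0) (q : Polynomial R) (hq : Polynomial.aeval z⁻¹ q = z) : IsIntegral R z := by
  let d := q.natDegree
  refine ⟨Polynomial.X ^ (d + 1) - q.reverse, Polynomial.monic_X_pow_sub ?_, ?_⟩
  · exact Polynomial.degree_le_natDegree.trans_lt
      (WithBot.coe_lt_coe.2 (Nat.lt_succ_of_le q.reverse_natDegree_le))
  · let := invertibleOfNonzero (inv_ne_zero hz)
    have e := Polynomial.eval₂_reverse_mul_pow (algebraMap R K) z⁻¹ q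
    rw [invOf_eq_inv, inv_inv, ← Polynomial.aeval_def, ← Polynomial.aeval_def, hq] at e
    rw [← Polynomial.aeval_def, map_sub, map_pow, Polynomial.aeval_X, pow_succ', sub_eq_zero]
    have hzd : z⁻¹ ^ d * z ^ d = 1 := by rw [← mul_pow, inv_mul_cancel₀ hz, one_pow]
    calc z * z ^ d = Polynomial.aeval z q.reverse * z⁻¹ ^ d * z ^ d := by rw [e]
      _ = Polynomial.aeval z q.reverse := by rw [mul_assoc, hzd, mul_one]

/-- Integral elements of the fraction field go to an integrally closed overring. -/
theorem exists_factor {R V O : Type u} [CommRing R] [IsDomain R] [CommRing V] [IsDomain V]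
    [IsIntegrallyClosed V] [CommRing O] (K : Type u) [Field K] [Algebra R K] [IsFractionRing R K]
    (L : Type u) [Field L] [Algebra V L] [IsFractionRing V L] (ι : R →+* V) (hι : Function.Injective ι) (γ : O →+* K) (hint : ∀ z, IsIntegral R (γ z)) :
    ∃ β : O →+* V, ∀ z r, γ z = algebraMap R K r → β z = ι r := by
  let φL : K →+* L := IsFractionRing.lift
    (g := (algebraMap V L).comp ι) ((IsFractionRing.injective V L).comp hι)
  have hV : ∀ z, ∃ v : V, algebraMap V (L) v = φL (γ z) := by
    intro z
    refine IsIntegrallyClosed.isIntegral_iff.1 ?_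
    obtain ⟨P, hPm, hP⟩ := hint z
    refine ⟨P.map ι, hPm.map _, ?_⟩
    rw [Polynomial.eval₂_map]
    have : (algebraMap V L).comp ι = φL.comp (algebraMap R K) :=
      RingHom.ext fun r => by simp [φL]
    rw [this, ← Polynomial.hom_eval₂, hP, map_zero]
  choose β hβ using hV
  have inj := IsFractionRing.injective V (L)
  refine ⟨{ toFun := β
            map_one' := inj (by rw [hβ, map_one, map_one, map_one])
            map_zero' := inj (by rw [hβ, map_zero, map_zero, map_zero])
            map_add' := fun a b => inj (by rw [map_add, hβ, hβ, hβ, map_add, map_add])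
            map_mul' := fun a b => inj (by rw [map_mul, hβ, hβ, hβ, map_mul, map_mul]) },
    fun z r h => inj ?_⟩
  show algebraMap V _ (β z) = _
  rw [hβ, h, IsFractionRing.lift_algebraMap]
  rfl

/-- An element of the fraction field lying in every dominating discrete valuation ring is integral. -/
theorem isIntegral_of_forall_dvr {R : Type u} [CommRing R] [IsDomain R] [IsNoetherianRing R]
    [IsLocalRing R] (K : Type u) [Field K] [Algebra R K] [IsFractionRing R K] (z : K) (a b : R)
    (hb : b ≠ 0) (hz : z * algebraMap R K b = algebraMap R K a)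
    (h : ∀ (A : Type u) [CommRing A] [IsDomain A] [IsDiscreteValuationRing A] (φ : R →+* A),
      Function.Injective φ → IsLocalHom φ → φ b ∣ φ a) :
    IsIntegral R z := by
  by_contra hz'
  have hz0 : z ≠ 0 := fun e => hz' (e ▸ isIntegral_zero)
  let S := Algebra.adjoin R ({z⁻¹} : Set K)
  let w : S := ⟨z⁻¹, Algebra.subset_adjoin rfl⟩
  have hw : ¬ IsUnit w := by
    intro hu
    obtain ⟨v, hv⟩ := hu.exists_right_inv
    have hv' : z⁻¹ * (v : K) = 1 := congrArg Subtype.val hv
    have hvz : (v : K) = z := by
      calc (v : K) = z * (z⁻¹ * v) := by rw [← mul_assoc, mul_inv_cancel₀ hz0, one_mul]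
        _ = z := by rw [hv', mul_one]
    have hzS : z ∈ S := hvz ▸ v.2
    obtain ⟨q, hq⟩ : ∃ q : Polynomial R, Polynomial.aeval z⁻¹ q = z := by
      have h2 : z ∈ (Polynomial.aeval (R := R) z⁻¹).range := by
        rw [← Algebra.adjoin_singleton_eq_range_aeval]; exact hzS
      exact h2
    exact hz' (isIntegral_of_eq_aeval_inv hz0 q hq)
  obtain ⟨n, hn, hwn⟩ := exists_max_ideal_of_mem_nonunits hw
  haveI := hn
  haveI : Algebra.FiniteType R S := (Subalgebra.fg_iff_finiteType S).1 ⟨{z⁻¹}, by simp [S]⟩
  haveI : IsNoetherianRing S := Algebra.FiniteType.isNoetherianRing R S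
  let L := Localization.AtPrime n
  haveI : IsNoetherianRing L := IsLocalization.isNoetherianRing n.primeCompl L inferInstance
  haveI : IsDomain L := IsLocalization.isDomain_localization n.primeCompl_le_nonZeroDivisors
  have hLinj : Function.Injective (algebraMap S L) :=
    IsLocalization.injective L n.primeCompl_le_nonZeroDivisors
  have hw0 : w ≠ 0 := fun e => inv_ne_zero hz0 (congrArg Subtype.val e)
  have hLf : ¬ IsField L := by
    intro hf
    have h1 : algebraMap S L w ∈ maximalIdeal L :=
      (IsLocalization.AtPrime.to_map_mem_maximal_iff L n w).2 hwn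
    rw [isField_iff_maximalIdeal_eq.1 hf, Ideal.mem_bot] at h1
    exact hw0 (hLinj (h1.trans (map_zero _).symm))
  obtain ⟨A, _, _, _, ψ, hψi, hψl⟩ := Groth.EGA43Val.exists_dvr_dominating L hLf
  let χ : S →+* A := ψ.comp (algebraMap S L)
  have hm : Ideal.comap (algebraMap R S) n = maximalIdeal R := by
    have hsurj : Function.Surjective ((Ideal.Quotient.mk n).comp (algebraMap R S)) := by
      intro y
      obtain ⟨s, rfl⟩ := Ideal.Quotient.mk_surjective y
      obtain ⟨s, hs⟩ := s
      induction hs using Algebra.adjoin_induction with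
      | mem x hx =>
        obtain rfl := Set.mem_singleton_iff.1 hx
        exact ⟨0, by rw [map_zero]; exact (Ideal.Quotient.eq_zero_iff_mem.2 hwn).symm⟩
      | algebraMap r => exact ⟨r, rfl⟩
      | add x y hx hy h1 h2 =>
        obtain ⟨r, hr⟩ := h1; obtain ⟨t, ht⟩ := h2
        exact ⟨r + t, by rw [map_add, hr, ht]; rfl⟩
      | mul x y hx hy h1 h2 =>
        obtain ⟨r, hr⟩ := h1; obtain ⟨t, ht⟩ := h2
        exact ⟨r * t, by rw [map_mul, hr, ht]; rfl⟩
    letI := Ideal.Quotient.field n
    have := RingHom.ker_isMaximal_of_surjective _ hsurj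
    rw [← RingHom.comap_ker, Ideal.mk_ker] at this
    exact IsLocalRing.eq_maximalIdeal this
  have hinjS : Function.Injective (algebraMap R S) := fun x y e =>
    IsFractionRing.injective R K (congrArg Subtype.val e)
  have hloc : IsLocalHom (χ.comp (algebraMap R S)) := ⟨fun r hr => by
    have h1 : IsUnit (algebraMap S L (algebraMap R S r)) := hψl.map_nonunit _ hr
    rw [← notMem_maximalIdeal, ← hm, Ideal.mem_comap]
    exact (IsLocalization.AtPrime.isUnit_to_map_iff L n _).1 h1⟩
  obtain ⟨c, hc⟩ := h A (χ.comp (algebraMap R S)) ((hψi.comp hLinj).comp hinjS) hloc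
  have he : algebraMap R S b = w * algebraMap R S a := Subtype.ext (by
    show algebraMap R K b = z⁻¹ * algebraMap R K a
    rw [← hz, ← mul_assoc, inv_mul_cancel₀ hz0, one_mul])
  simp only [RingHom.comp_apply] at hc
  have hb' : χ (algebraMap R S b) ≠ 0 := fun e =>
    hb (hinjS (((hψi.comp hLinj) (e.trans (map_zero χ).symm)).trans (map_zero _).symm))
  have h2 : χ w * c = 1 := by
    refine mul_left_cancel₀ hb' ?_
    rw [mul_one]
    conv_rhs => rw [he, map_mul, hc]
    ring
  have h3 : IsUnit (algebraMap S L w) := hψl.map_nonunit _ (IsUnit.of_mul_eq_one c h2)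
  exact (IsLocalization.AtPrime.isUnit_to_map_iff L n w).1 h3 hwn

variable {X Y : Scheme.{u}} (f : Y ⟶ X) [Mono f]

/-- A field valued point in the image of a monomorphism lifts. -/
theorem exists_lift_point {K : Type u} [Field K] (q : Spec (CommRingCat.of K) ⟶ X) (y : Y)
    (h : f y = q (closedPoint K)) : ∃ l : Spec (CommRingCat.of K) ⟶ Y, l ≫ f = q := by
  have hq := (Scheme.SpecToEquivOfField K X).symm_apply_apply q
  have h' : ((Scheme.SpecToEquivOfField K X) q).1 = f y := h.symm
  generalize (Scheme.SpecToEquivOfField K X) q = e at hq h'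
  obtain ⟨x, ψ⟩ := e
  obtain rfl : x = f y := h'
  have := Groth.AlgSpBasic.isIso_residueFieldMap_of_mono f y
  refine ⟨Spec.map (inv (f.residueFieldMap y) ≫ ψ) ≫ Y.fromSpecResidueField y, ?_⟩
  rw [Category.assoc, ← Scheme.Hom.SpecMap_residueFieldMap_fromSpecResidueField, ← Category.assoc,
    ← Spec.map_comp, IsIso.hom_inv_id_assoc]
  exact hq

/-- A valuative square of a monomorphism to a locally Noetherian scheme which has a lift of the closed
point has a lift, provided this is true over discrete valuation rings. -/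
theorem exists_lift [IsLocallyNoetherian X]
    (h : ∀ S : ValuativeCommSq f, IsDiscreteValuationRing S.R →
        (∃ l₀ : Spec (CommRingCat.of (IsLocalRing.ResidueField S.R)) ⟶ Y,
            l₀ ≫ f = Spec.map (CommRingCat.ofHom (IsLocalRing.residue S.R)) ≫ S.i₂) →
          S.commSq.HasLift)
    (V : Type u) [CommRing V] [IsDomain V] [ValuationRing V] (i₂ : Spec (CommRingCat.of V) ⟶ X)
    (y₀ y₁ : Y) (h₀ : f y₀ = i₂ (closedPoint V))
    (h₁ : f y₁ = i₂ (⟨⊥, Ideal.isPrime_bot⟩ : PrimeSpectrum V)) :
    ∃ m : Spec (CommRingCat.of V) ⟶ Y, m ≫ f = i₂ := by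
  let α₀ : X.presheaf.stalk (i₂ (closedPoint V)) ⟶ CommRingCat.of V := Scheme.stalkClosedPointTo i₂
  have hi₂ : Spec.map α₀ ≫ X.fromSpecStalk (i₂ (closedPoint V)) = i₂ :=
    Scheme.Spec_stalkClosedPointTo_fromSpecStalk i₂
  clear_value α₀
  revert α₀ hi₂
  rw [← h₀]
  intro α hi₂
  suffices hβ : ∃ β : Y.presheaf.stalk y₀ ⟶ CommRingCat.of V, f.stalkMap y₀ ≫ β = α by
    obtain ⟨β, hβ⟩ := hβ
    exact ⟨Spec.map β ≫ Y.fromSpecStalk y₀, by
      rw [Category.assoc, ← Scheme.SpecMap_stalkMap_fromSpecStalk, ← Category.assoc, ← Spec.map_comp,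
        hβ, hi₂]⟩
  let p := RingHom.ker α.hom
  haveI : p.IsPrime := RingHom.ker_isPrime _
  let R := X.presheaf.stalk (f y₀) ⧸ p
  let αbar : R →+* V := RingHom.kerLift α.hom
  have hαbar : Function.Injective αbar := RingHom.kerLift_injective _
  by_cases hp : p = maximalIdeal (X.presheaf.stalk (f y₀))
  · have := Groth.AlgSpBasic.isIso_residueFieldMap_of_mono f y₀
    let α' : X.residueField (f y₀) ⟶ CommRingCat.of V :=
      CommRingCat.ofHom (Ideal.Quotient.lift _ α.hom (fun a ha => by rw [← hp] at ha; exact ha))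
    refine ⟨Y.residue y₀ ≫ inv (f.residueFieldMap y₀) ≫ α', ?_⟩
    rw [← Category.assoc, ← Scheme.residue_residueFieldMap, Category.assoc, IsIso.hom_inv_id_assoc]
    ext a
    rfl
  · haveI : IsLocalRing R := IsLocalRing.of_surjective' _ Ideal.Quotient.mk_surjective
    haveI : IsNoetherianRing R := inferInstance
    have hR : ¬ IsField R := fun hf =>
      hp (IsLocalRing.eq_maximalIdeal (Ideal.Quotient.maximal_of_isField p hf))
    let K := FractionRing R
    let qR : X.presheaf.stalk (f y₀) ⟶ CommRingCat.of R := CommRingCat.ofHom (Ideal.Quotient.mk p)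
    let qK : X.presheaf.stalk (f y₀) ⟶ CommRingCat.of K :=
      qR ≫ CommRingCat.ofHom (algebraMap R K)
    have hptK : ∀ (F : Type u) [Field F] (θ : R →+* F), Function.Injective θ →
        (Spec.map (qR ≫ CommRingCat.ofHom θ) ≫ X.fromSpecStalk (f y₀)) (closedPoint F) = f y₁ := by
      intro F _ θ hθ
      rw [h₁, ← hi₂, Scheme.Hom.comp_apply, Scheme.Hom.comp_apply]
      congr 1
      apply PrimeSpectrum.ext
      show Ideal.comap (θ.comp (Ideal.Quotient.mk p)) (maximalIdeal F) = Ideal.comap α.hom ⊥
      rw [isField_iff_maximalIdeal_eq.1 (Field.toIsField F), ← RingHom.ker_eq_comap_bot,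
        ← RingHom.ker_eq_comap_bot, RingHom.ker_comp_of_injective _ hθ, Ideal.mk_ker]
    have main : ∀ (A : Type u) [CommRing A] [IsDomain A] [IsDiscreteValuationRing A] (φ : R →+* A),
        Function.Injective φ → IsLocalHom φ → ∃ mA : Spec (CommRingCat.of A) ⟶ Y,
          mA ≫ f = Spec.map (qR ≫ CommRingCat.ofHom φ) ≫ X.fromSpecStalk (f y₀) := by
      intro A _ _ _ φ hφ hφl
      let F := FractionRing A
      let iA := Spec.map (qR ≫ CommRingCat.ofHom φ) ≫ X.fromSpecStalk (f y₀)
      have hcl : iA (closedPoint A) = f y₀ := by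
        have : IsLocalHom (qR ≫ CommRingCat.ofHom φ).hom := by
          show IsLocalHom (φ.comp (Ideal.Quotient.mk p))
          haveI := hφl
          haveI : IsLocalHom (Ideal.Quotient.mk p) := IsLocalHom.of_surjective _ Ideal.Quotient.mk_surjective
          infer_instance
        show X.fromSpecStalk (f y₀) (Spec.map (qR ≫ CommRingCat.ofHom φ) (closedPoint A)) = _
        erw [Spec_closedPoint]
        exact Scheme.fromSpecStalk_closedPoint
      obtain ⟨i₁, hi₁⟩ := exists_lift_point f
        (Spec.map (CommRingCat.ofHom (algebraMap A F)) ≫ iA) y₁ (by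
          rw [← hptK F ((algebraMap A F).comp φ) ((IsFractionRing.injective A F).comp hφ)]
          simp only [iA, ← Category.assoc, ← Spec.map_comp]
          rfl)
      let S : ValuativeCommSq f := { R := A, K := F, i₁ := i₁, i₂ := iA, commSq := ⟨hi₁⟩ }
      obtain ⟨l₀, hl₀⟩ := exists_lift_point f
        (Spec.map (CommRingCat.ofHom (residue A)) ≫ iA) y₀ (by
          show _ = iA (Spec.map (CommRingCat.ofHom (residue A)) (closedPoint (ResidueField A)))
          have : IsLocalHom (CommRingCat.ofHom (residue A)).hom := inferInstanceAs (IsLocalHom (residue A))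
          erw [Spec_closedPoint]
          exact hcl.symm)
      obtain ⟨⟨l⟩⟩ := h S ‹IsDiscreteValuationRing A› ⟨l₀, hl₀⟩
      exact ⟨l.l, l.fac_right⟩
    have finj : ∀ a b : Y, f a = f b → a = b := fun a b e => f.injective e
    obtain ⟨A₀, _, _, _, φ₀, hφ₀, hφ₀l⟩ := Groth.EGA43Val.exists_dvr_dominating R hR
    obtain ⟨mA₀, hmA₀⟩ := main A₀ φ₀ hφ₀ hφ₀l
    obtain ⟨e, he⟩ := exists_lift_point f (Spec.map qK ≫ X.fromSpecStalk (f y₀)) y₁
      (hptK K (algebraMap R K) (IsFractionRing.injective R K)).symm
    have hclA : ∀ (A : Type u) [CommRing A] [IsDomain A] [IsDiscreteValuationRing A] (φ : R →+* A)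
        (hφl : IsLocalHom φ) (mA : Spec (CommRingCat.of A) ⟶ Y),
        mA ≫ f = Spec.map (qR ≫ CommRingCat.ofHom φ) ≫ X.fromSpecStalk (f y₀) →
          mA (closedPoint A) = y₀ := by
      intro A _ _ _ φ hφl mA hmA
      apply finj
      rw [← Scheme.Hom.comp_apply, hmA]
      have : IsLocalHom (qR ≫ CommRingCat.ofHom φ).hom := by
        show IsLocalHom (φ.comp (Ideal.Quotient.mk p))
        haveI := hφl
        haveI : IsLocalHom (Ideal.Quotient.mk p) := IsLocalHom.of_surjective _ Ideal.Quotient.mk_surjective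
        infer_instance
      show X.fromSpecStalk (f y₀) (Spec.map (qR ≫ CommRingCat.ofHom φ) (closedPoint A)) = _
      erw [Spec_closedPoint]
      exact Scheme.fromSpecStalk_closedPoint
    have hspec : e (closedPoint K) ⤳ y₀ := by
      have hgen : mA₀ (⟨⊥, Ideal.isPrime_bot⟩ : PrimeSpectrum A₀) = e (closedPoint K) := by
        apply finj
        rw [← Scheme.Hom.comp_apply, ← Scheme.Hom.comp_apply, hmA₀, he,
          hptK K (algebraMap R K) (IsFractionRing.injective R K),
          ← hptK (FractionRing A₀) ((algebraMap A₀ _).comp φ₀) ((IsFractionRing.injective A₀ _).comp hφ₀),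
          Scheme.Hom.comp_apply, Scheme.Hom.comp_apply]
        congr 1
        apply PrimeSpectrum.ext
        show Ideal.comap (φ₀.comp (Ideal.Quotient.mk p)) ⊥ =
          Ideal.comap (((algebraMap A₀ (FractionRing A₀)).comp φ₀).comp (Ideal.Quotient.mk p))
            (maximalIdeal (FractionRing A₀))
        rw [isField_iff_maximalIdeal_eq.1 (Field.toIsField (FractionRing A₀)), ← RingHom.ker_eq_comap_bot,
          ← RingHom.ker_eq_comap_bot, RingHom.comp_assoc,
          RingHom.ker_comp_of_injective _ (IsFractionRing.injective A₀ (FractionRing A₀))]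
      rw [← hgen, ← hclA A₀ φ₀ hφ₀l mA₀ hmA₀]
      refine Specializes.map ?_ mA₀.continuous
      exact (PrimeSpectrum.le_iff_specializes _ _).1 (bot_le : (⊥ : Ideal A₀) ≤ maximalIdeal A₀)
    let γ : Y.presheaf.stalk y₀ ⟶ CommRingCat.of K :=
      Y.presheaf.stalkSpecializes hspec ≫ Scheme.stalkClosedPointTo e
    have hγ : Spec.map γ ≫ Y.fromSpecStalk y₀ = e := by
      rw [Spec.map_comp, Category.assoc, Scheme.SpecMap_stalkSpecializes_fromSpecStalk,
        Scheme.Spec_stalkClosedPointTo_fromSpecStalk]
    have hγα : f.stalkMap y₀ ≫ γ = qK := by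
      apply Spec.map_injective
      rw [← cancel_mono (X.fromSpecStalk (f y₀)), ← he, ← hγ, Spec.map_comp, Category.assoc, Category.assoc,
        Scheme.SpecMap_stalkMap_fromSpecStalk]
    clear_value γ
    have hint : ∀ z, IsIntegral R (γ.hom z) := by
      intro z
      obtain ⟨⟨a, b⟩, hab⟩ := IsLocalization.surj (nonZeroDivisors R) (γ.hom z)
      refine isIntegral_of_forall_dvr K _ a b (nonZeroDivisors.ne_zero b.2) hab fun A _ _ _ φ hφ hφl => ?_
      obtain ⟨mA, hmA⟩ := main A φ hφ hφl
      let βA : Y.presheaf.stalk y₀ ⟶ CommRingCat.of A :=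
        (Y.presheaf.stalkCongr (.of_eq (hclA A φ hφl mA hmA).symm)).hom ≫ Scheme.stalkClosedPointTo mA
      have hβA : Spec.map βA ≫ Y.fromSpecStalk y₀ = mA := by
        simp only [βA, TopCat.Presheaf.stalkCongr_hom, Spec.map_comp, Category.assoc]
        rw [Scheme.SpecMap_stalkSpecializes_fromSpecStalk, Scheme.Spec_stalkClosedPointTo_fromSpecStalk]
      clear_value βA
      let φK : K →+* FractionRing A := IsFractionRing.lift
        (g := (algebraMap A (FractionRing A)).comp φ) ((IsFractionRing.injective A _).comp hφ)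
      have hφK : ∀ r, φK (algebraMap R K r) = algebraMap A (FractionRing A) (φ r) := fun r =>
        IsFractionRing.lift_algebraMap _ r
      have key : γ ≫ CommRingCat.ofHom φK = βA ≫ CommRingCat.ofHom (algebraMap A (FractionRing A)) := by
        apply Spec.map_injective
        rw [← cancel_mono (Y.fromSpecStalk y₀), Spec.map_comp, Spec.map_comp, Category.assoc, Category.assoc]
        rw [hγ, hβA]
        rw [← cancel_mono f, Category.assoc, Category.assoc, he, hmA, ← Category.assoc, ← Category.assoc,
          ← Spec.map_comp, ← Spec.map_comp]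
        congr 2
        ext r
        exact hφK _
      have key' : φK (γ.hom z) = algebraMap A (FractionRing A) (βA.hom z) :=
        congrArg (fun g => g.hom z) key
      refine ⟨βA.hom z, IsFractionRing.injective A (FractionRing A) ?_⟩
      rw [map_mul, ← key', ← hφK, ← hφK, ← map_mul, mul_comm, hab]
    obtain ⟨β, hβ⟩ := exists_factor K (FractionRing V) αbar hαbar γ.hom hint
    refine ⟨CommRingCat.ofHom β, ?_⟩
    ext r
    exact hβ _ (Ideal.Quotient.mk p r) (congrArg (fun g => g.hom r) hγα)

end Groth.MonoVal
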